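import Mathlib
import Cfsg.Agent.Lib.LinGroup.Simple
import Cfsg.Agent.Lib.Components.Quasisimple

/-!
Block diagonal matrices `diag(A, d)` of size `m + 1` and quasisimplicity of `SL_m(F)`.
-/

set_option autoImplicit false

namespace Cfsg.Agent.Lib.BlockDiag

open Matrix Cfsg

variable {F : Type*} [Field F] {m : ℕ}

/-- `diag(A, d)`. -/
def blockMat (A : Matrix (Fin m) (Fin m) F) (d : F) : Matrix (Fin (m + 1)) (Fin (m + 1)) F :=
  Matrix.reindexAlgEquiv F F finSumFinEquiv (Matrix.fromBlocks A 0 0 (d • 1))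

theorem blockMat_mul (A B : Matrix (Fin m) (Fin m) F) (d e : F) :
    blockMat A d * blockMat B e = blockMat (A * B) (d * e) := by
  simp [blockMat, ← map_mul, Matrix.fromBlocks_multiply, smul_smul, mul_comm]

theorem blockMat_one : blockMat (1 : Matrix (Fin m) (Fin m) F) 1 = 1 := by
  simp [blockMat, Matrix.fromBlocks_one]

theorem blockMat_inj {A B : Matrix (Fin m) (Fin m) F} {d e : F} :
    blockMat A d = blockMat B e ↔ A = B ∧ d = e := by
  constructor
  · intro h
    obtain ⟨h1, -, -, h4⟩ := Matrix.fromBlocks_inj.1 ((Matrix.reindexAlgEquiv F F _).injective h)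
    exact ⟨h1, by simpa using congrFun (congrFun h4 0) 0⟩
  · rintro ⟨rfl, rfl⟩; rfl

theorem det_blockMat (A : Matrix (Fin m) (Fin m) F) (d : F) :
    (blockMat A d).det = A.det * d := by
  rw [blockMat, Matrix.det_reindexAlgEquiv, Matrix.det_fromBlocks_zero₂₁, Matrix.det_smul,
    Matrix.det_one, Fintype.card_fin, pow_one, mul_one]

theorem blockMat_diagonal (v : Fin (m + 1) → F) :
    Matrix.diagonal v =
      blockMat (Matrix.diagonal fun i : Fin m => v (Fin.castAdd 1 i)) (v (Fin.last m)) := by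
  rw [blockMat, ← Matrix.diagonal_one, ← Matrix.diagonal_smul, Matrix.fromBlocks_diagonal]
  simp only [Matrix.reindexAlgEquiv_apply, Matrix.reindex_apply, Matrix.submatrix_diagonal_equiv]
  congr 1
  ext k
  obtain ⟨x, rfl⟩ := finSumFinEquiv.surjective k
  rcases x with i | i
  · simp
  · rw [show i = (0 : Fin 1) from Subsingleton.elim _ _, finSumFinEquiv_apply_right]
    simp [finSumFinEquiv_symm_apply_natAdd, show Fin.natAdd m (0 : Fin 1) = Fin.last m from rfl]

theorem exists_eq_blocks (M : Matrix (Fin (m + 1)) (Fin (m + 1)) F) :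
    ∃ (A : Matrix (Fin m) (Fin m) F) (B : Matrix (Fin m) (Fin 1) F) (C : Matrix (Fin 1) (Fin m) F)
      (d : F), M = Matrix.reindexAlgEquiv F F finSumFinEquiv (Matrix.fromBlocks A B C (d • 1)) := by
  set X := (Matrix.reindexAlgEquiv F F finSumFinEquiv).symm M with hX
  refine ⟨X.toBlocks₁₁, X.toBlocks₁₂, X.toBlocks₂₁, X.toBlocks₂₂ 0 0, ?_⟩
  have h : X.toBlocks₂₂ 0 0 • (1 : Matrix (Fin 1) (Fin 1) F) = X.toBlocks₂₂ := by
    ext i j
    simp [Subsingleton.elim i 0, Subsingleton.elim j 0]
  rw [h, Matrix.fromBlocks_toBlocks, hX, AlgEquiv.apply_symm_apply]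

/-- Matrices commuting with `diag(-1, 1)` are block diagonal. -/
theorem exists_blockMat_of_commute (h2 : (2 : F) ≠ 0) {M : Matrix (Fin (m + 1)) (Fin (m + 1)) F}
    (h : M * blockMat (-1) 1 = blockMat (-1) 1 * M) : ∃ A d, M = blockMat A d := by
  obtain ⟨A, B, C, d, rfl⟩ := exists_eq_blocks M
  rw [blockMat, ← map_mul, ← map_mul] at h
  have h' := (Matrix.reindexAlgEquiv F F _).injective h
  simp only [Matrix.fromBlocks_multiply, Matrix.mul_neg, Matrix.neg_mul, mul_one, one_mul,
    Matrix.mul_zero, Matrix.zero_mul, add_zero, zero_add, one_smul] at h'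
  obtain ⟨-, hB, hC, -⟩ := Matrix.fromBlocks_inj.1 h'
  simp only [Matrix.mul_one, Matrix.one_mul] at hB hC
  have hz : ∀ x : F, x = -x → x = 0 := fun x hx => by
    have : (2 : F) * x = 0 := by rw [two_mul]; nth_rewrite 2 [hx]; exact add_neg_cancel x
    exact (mul_eq_zero.1 this).resolve_left h2
  have hB0 : B = 0 := by
    ext i j
    exact hz _ (by simpa using congrFun (congrFun hB i) j)
  have hC0 : C = 0 := by
    ext i j
    exact hz _ (by simpa using (congrFun (congrFun hC i) j).symm)
  exact ⟨A, d, by rw [hB0, hC0]; rfl⟩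

theorem blockMat_commute_neg (A : Matrix (Fin m) (Fin m) F) (d : F) :
    blockMat A d * blockMat (-1) 1 = blockMat (-1) 1 * blockMat A d := by
  rw [blockMat_mul, blockMat_mul]; simp

/-- Matrices commuting with all `diag(T, 1)`, `T` a transvection, are `diag(a, …, a, d)`. -/
theorem exists_scalar_of_commute (hm : 2 ≤ m) {M : Matrix (Fin (m + 1)) (Fin (m + 1)) F}
    (h : ∀ (i j : Fin m), i ≠ j → ∀ c : F,
      M * blockMat (Matrix.transvection i j c) 1 = blockMat (Matrix.transvection i j c) 1 * M) :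
    ∃ (a : F) (d : F), M = blockMat (a • 1) d := by
  obtain ⟨A, B, C, d, rfl⟩ := exists_eq_blocks M
  have key : ∀ (i j : Fin m), i ≠ j → ∀ c : F,
      A * Matrix.transvection i j c = Matrix.transvection i j c * A ∧
      B = Matrix.transvection i j c * B ∧ C * Matrix.transvection i j c = C := by
    intro i j hij c
    have h1 := h i j hij c
    rw [blockMat, ← map_mul, ← map_mul] at h1
    have h' := (Matrix.reindexAlgEquiv F F _).injective h1
    simp only [Matrix.fromBlocks_multiply, Matrix.mul_zero, Matrix.zero_mul, add_zero, zero_add,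
      one_smul, Matrix.mul_one, Matrix.one_mul] at h'
    obtain ⟨h11, h12, h21, -⟩ := Matrix.fromBlocks_inj.1 h'
    exact ⟨h11, h12, h21⟩
  haveI : Nontrivial (Fin m) := Fin.nontrivial_iff_two_le.2 hm
  obtain ⟨a, ha⟩ := Matrix.mem_range_scalar_of_commute_transvectionStruct (M := A) fun t =>
    ((key t.i t.j t.hij t.c).1).symm
  refine ⟨a, d, ?_⟩
  have hB : B = 0 := by
    ext j l
    obtain ⟨i, hi⟩ := exists_ne j
    have h1 := congrFun (congrFun (key i j hi 1).2.1 i) l
    rw [Matrix.transvection, Matrix.add_mul, Matrix.one_mul, Matrix.add_apply,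
      Matrix.single_mul_apply_same, one_mul] at h1
    simpa using h1
  have hC : C = 0 := by
    ext l i
    obtain ⟨j, hj⟩ := exists_ne i
    have h1 := congrFun (congrFun (key i j (Ne.symm hj) 1).2.2 l) j
    rw [Matrix.transvection, Matrix.mul_add, Matrix.mul_one, Matrix.add_apply,
      Matrix.mul_single_apply_same, mul_one] at h1
    simpa using h1
  have hA : A = a • 1 := by
    rw [← ha]
    simp [Matrix.smul_one_eq_diagonal, Matrix.scalar_apply]
  rw [hA, hB, hC]
  rfl

/-- `SL_m → SL_{m+1}`, `A ↦ diag(A, 1)`. -/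
def embedSL : SpecialLinearGroup (Fin m) F →* SpecialLinearGroup (Fin (m + 1)) F where
  toFun A := ⟨blockMat A.1 1, by rw [det_blockMat, A.2, one_mul]⟩
  map_one' := Subtype.ext blockMat_one
  map_mul' A B := Subtype.ext (by
    show blockMat (A.1 * B.1) 1 = blockMat A.1 1 * blockMat B.1 1
    rw [blockMat_mul, one_mul])

theorem embedSL_coe (A : SpecialLinearGroup (Fin m) F) :
    (embedSL A : Matrix (Fin (m + 1)) (Fin (m + 1)) F) = blockMat A.1 1 := rfl

theorem embedSL_injective : Function.Injective (embedSL (F := F) (m := m)) := fun A B h =>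
  Subtype.ext (blockMat_inj.1 (congrArg Subtype.val h)).1

/-- `SL_m(F)` is quasisimple, apart from `SL_2(2)` and `SL_2(3)`. -/
theorem quasisimple_SL [Finite F] (hm : 2 ≤ m) (h : m = 2 → 4 ≤ Nat.card F) :
    IsQuasisimple (SpecialLinearGroup (Fin m) F) :=
  ⟨Group.isPerfect_def.2 (LinGroup.commutator_SL_fin_eq_top hm h),
    LinGroup.isSimpleGroup_PSL_fin hm h⟩

/-- `SL_m(F)` contains an involution in odd characteristic. -/
theorem exists_involution (hm : 2 ≤ m) (h2 : (2 : F) ≠ 0) :
    ∃ s : SpecialLinearGroup (Fin m) F, orderOf s = 2 := by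
  obtain ⟨k, rfl⟩ := Nat.exists_eq_add_of_le hm
  set v : Fin (2 + k) → F := fun i => if (i : ℕ) < 2 then -1 else 1 with hv
  have hdet : (Matrix.diagonal v).det = 1 := by
    rw [Matrix.det_diagonal, Fin.prod_univ_add]
    simp [hv, Fin.prod_univ_two, show ∀ x : ℕ, ¬ (2 + x ≤ 1) from fun x => by omega]
  let s : SpecialLinearGroup (Fin (2 + k)) F := ⟨Matrix.diagonal v, hdet⟩
  refine ⟨s, orderOf_eq_prime ?_ fun he => ?_⟩
  · rw [pow_two]
    apply Subtype.ext
    show Matrix.diagonal v * Matrix.diagonal v = 1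
    rw [Matrix.diagonal_mul_diagonal, ← Matrix.diagonal_one]
    congr 1
    funext i
    simp only [hv]
    split <;> simp
  · have h1 := congrFun (congrFun (congrArg Subtype.val he) ⟨0, by omega⟩) ⟨0, by omega⟩
    change Matrix.diagonal v _ _ = (1 : Matrix (Fin (2 + k)) (Fin (2 + k)) F) _ _ at h1
    rw [Matrix.diagonal_apply_eq, Matrix.one_apply_eq, hv] at h1
    simp only [Nat.zero_lt_two, if_true] at h1
    exact h2 (by rw [← one_add_one_eq_two]; nth_rewrite 1 [← h1]; exact neg_add_cancel 1)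

end Cfsg.Agent.Lib.BlockDiag
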