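import Cfsg.Agent.Lib.SL2.Dickson
import Cfsg.Agent.Lib.LinGroup.Generation

/-!
# Subgroups of `SL₂(q)` with several Sylow `p`-subgroups contain `SL₂(p)`
-/

set_option autoImplicit false

namespace Cfsg.Agent.Lib.LinGroup

open Matrix Cfsg.Agent.Lib.SL2

variable {F : Type*} [Field F] (p : ℕ) [hp : Fact p.Prime] [CharP F p]

theorem pow_two_mul_of_pGroup [Fintype F] {z : SLtwo F} {k : ℕ} (hz : z ^ p ^ k = 1) :
    z ^ (2 * p) = 1 := by
  by_cases h1 : proj z = 1
  · rcases (mem_center_iff_eq z).1 (proj_eq_one_iff.1 h1) with h | h <;> subst h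
    · exact one_pow _
    · rw [pow_mul, neg_one_sq, one_pow]
  rcases semi_or_unip (proj z) with hs | ⟨g, hg, ht⟩
  · exfalso
    have hd : orderOf (proj z) ∣ Nat.card (torus (proj z)) := by
      have h := orderOf_dvd_natCard (⟨proj z, mem_torus_self _⟩ : torus (proj z))
      rwa [Subgroup.orderOf_mk] at h
    have hd' : orderOf (proj z) ∣ p ^ k :=
      orderOf_dvd_of_pow_eq_one (by rw [← map_pow, hz, map_one])
    exact h1 (orderOf_eq_one_iff.1 (Nat.eq_one_of_dvd_coprimes
      ((coprime_card_torus_semi p hs).pow_right k) hd hd'))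
  · apply pow_two_char_of_parabolic p
    rcases proj_eq_proj_iff.1 hg with rfl | rfl
    · exact Or.inl ht
    · exact Or.inr (by rw [tr_neg, ht])

theorem pow_char_of_pGroup [Fintype F] (hp2 : p ≠ 2) {z : SLtwo F} {k : ℕ}
    (hz : z ^ p ^ k = 1) : z ^ p = 1 := by
  have hc : Nat.Coprime 2 (p ^ k) :=
    ((Nat.coprime_primes Nat.prime_two hp.out).2 (Ne.symm hp2)).pow_right k
  have h : orderOf z ∣ p := (Nat.Coprime.coprime_dvd_left (orderOf_dvd_of_pow_eq_one hz) hc.symm)
    |>.dvd_of_dvd_mul_left (orderOf_dvd_of_pow_eq_one (pow_two_mul_of_pGroup p hz))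
  exact orderOf_dvd_iff_pow_eq_one.1 h

theorem tr_eq_two_of_pow_char [Fintype F] {z : SLtwo F} (hz : z ^ p = 1) : tr z = 2 := by
  by_cases h1 : z = 1
  · subst h1; simp [tr]; norm_num
  exact ((orderOf_eq_char_iff p).1 (orderOf_eq_prime hz h1)).2

/-- Two Sylow `p`-subgroups give two non-commuting elements of order `p`. -/
theorem exists_noncomm [Fintype F] (hp2 : p ≠ 2) (H : Subgroup (SLtwo F))
    (hH : 1 < Nat.card (Sylow p H)) :
    ∃ x ∈ H, ∃ y ∈ H, x ^ p = 1 ∧ y ^ p = 1 ∧ x * y ≠ y * x := by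
  by_contra hcon
  push Not at hcon
  let D : Subgroup H :=
    { carrier := {z | (z : SLtwo F) ^ p = 1}
      one_mem' := by simp
      mul_mem' := fun {a b} ha hb => by
        simp only [Set.mem_setOf_eq, Subgroup.coe_mul] at *
        rw [(show Commute (a : SLtwo F) b from hcon _ a.2 _ b.2 ha hb).mul_pow, ha, hb, one_mul]
      inv_mem' := fun {a} ha => by
        simp only [Set.mem_setOf_eq, Subgroup.coe_inv, inv_pow] at *
        rw [ha, inv_one] }
  have hD : IsPGroup p D := fun z => ⟨1, Subtype.ext (Subtype.ext (by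
    simp only [pow_one, Subgroup.coe_pow, Subgroup.coe_one]
    exact z.2))⟩
  have hall : ∀ P : Sylow p H, D = (P : Subgroup H) := by
    intro P
    refine P.is_maximal' hD ?_
    intro z hz
    obtain ⟨k, hk⟩ := P.isPGroup' ⟨z, hz⟩
    exact pow_char_of_pGroup p hp2 (k := k) (by
      simpa using congrArg (fun w : (P : Subgroup H) => ((w : H) : SLtwo F)) hk)
  haveI : Subsingleton (Sylow p H) := ⟨fun P Q => Sylow.ext ((hall P).symm.trans (hall Q))⟩
  have := (Finite.card_le_one_iff_subsingleton (α := Sylow p H)).2 inferInstance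
  omega

theorem proj_comm_iff [Fintype F] (hp2 : p ≠ 2) {x y : SLtwo F} (hx : x ^ p = 1) :
    proj x * proj y = proj y * proj x ↔ x * y = y * x := by
  refine ⟨fun h => ?_, fun h => by rw [← map_mul, h, map_mul]⟩
  rw [← map_mul, ← map_mul] at h
  rcases proj_eq_proj_iff.1 h with h' | h'
  · exact h'.symm
  · exfalso
    have h2 : (2 : F) ≠ 0 := fun e =>
      hp2 ((Nat.prime_dvd_prime_iff_eq hp.out Nat.prime_two).1
        ((CharP.cast_eq_zero_iff F p 2).1 (by exact_mod_cast e)))
    have e : tr (y * x * y⁻¹) = -tr x := by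
      rw [h', show -(x * y) * y⁻¹ = -x by simp [neg_mul], tr_neg]
    rw [tr_conj, tr_eq_two_of_pow_char p hx] at e
    exact mul_ne_zero h2 h2 (by linear_combination e)

/-- An element of order `p` of `PSL₂` lifts to one of order `p`. -/
theorem exists_lift [Fintype F] (hp2 : p ≠ 2) {H : Subgroup (SLtwo F)} {a : PSLtwo F}
    (ha : a ∈ H.map proj) (hap : a ^ p = 1) : ∃ x ∈ H, x ^ p = 1 ∧ proj x = a := by
  obtain ⟨z, hz, rfl⟩ := Subgroup.mem_map.1 ha
  refine ⟨z ^ (p + 1), H.pow_mem hz _, ?_, by rw [map_pow, pow_succ, hap, one_mul]⟩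
  have he : Even (p + 1) := (hp.out.odd_of_ne_two hp2).add_one
  rw [← pow_mul, mul_comm, pow_mul]
  rw [← map_pow] at hap
  rcases (mem_center_iff_eq _).1 (proj_eq_one_iff.1 hap) with h | h <;> rw [h]
  · exact one_pow _
  · exact he.neg_one_pow

/-- The trace of an element whose square or cube is central is in the prime field. -/
theorem tr_int_of_pow {h : SLtwo F} (hh : proj h ^ 2 = 1 ∨ proj h ^ 3 = 1) :
    ∃ n : ℤ, tr h = n := by
  have hdet := det_entries h
  by_cases hs : h 0 1 = 0 ∧ h 1 0 = 0 ∧ h 0 0 = h 1 1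
  · obtain ⟨e1, e2, e3⟩ := hs
    rw [e1, e2, ← e3] at hdet
    rcases mul_self_eq_one_iff.1 (show h 0 0 * h 0 0 = 1 by linear_combination hdet) with e | e
    · exact ⟨2, by simp [tr, ← e3, e]; norm_num⟩
    · exact ⟨-2, by simp [tr, ← e3, e]; norm_num⟩
  have key : ∀ a b : F, a • (h : Matrix (Fin 2) (Fin 2) F) = b • 1 → a = 0 := by
    intro a b e
    by_contra ha
    have e01 := congrFun (congrFun e 0) 1
    have e10 := congrFun (congrFun e 1) 0
    have e00 := congrFun (congrFun e 0) 0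
    have e11 := congrFun (congrFun e 1) 1
    simp [ha] at e01 e10 e00 e11
    exact hs ⟨e01, e10, mul_left_cancel₀ ha (e00.trans e11.symm)⟩
  have hc : ∀ g : SLtwo F, proj g = 1 →
      ∃ l : F, (g : Matrix (Fin 2) (Fin 2) F) = l • 1 := by
    intro g hg
    rcases (mem_center_iff_eq g).1 (proj_eq_one_iff.1 hg) with e | e <;> subst e
    · exact ⟨1, by simp⟩
    · exact ⟨-1, by simp⟩
  have h2 := cayley_hamilton h
  rcases hh with hh | hh <;> rw [← map_pow] at hh <;> obtain ⟨l, hl⟩ := hc _ hh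
  · rw [Matrix.SpecialLinearGroup.coe_pow, sq, h2] at hl
    exact ⟨0, by rw [key (tr h) (l + 1) (by rw [add_smul, one_smul, ← hl, sub_add_cancel]),
      Int.cast_zero]⟩
  · rw [Matrix.SpecialLinearGroup.coe_pow, pow_succ, sq, h2, sub_mul, smul_mul, h2, one_mul, smul_sub,
      smul_smul] at hl
    have := key (tr h * tr h - 1) (l + tr h) (by rw [sub_smul, add_smul, ← hl, one_smul]; abel)
    rcases mul_self_eq_one_iff.1 (sub_eq_zero.1 this) with e | e
    · exact ⟨1, by simpa using e⟩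
    · exact ⟨-1, by simpa using e⟩

omit [CharP F p] in
theorem nil_triple (M N : Matrix (Fin 2) (Fin 2) F) (hd : N.trace = 0) (hN : N * N = 0) :
    N * M * N = (M * N).trace • N := by
  have hd' : N 1 1 = -N 0 0 := by rw [trace_fin_two] at hd; linear_combination hd
  have h00 : N 0 0 * N 0 0 + N 0 1 * N 1 0 = 0 := by
    simpa [mul_apply, Fin.sum_univ_two] using congrFun (congrFun hN 0) 0
  ext i j
  fin_cases i <;> fin_cases j <;>
    simp [mul_apply, Fin.sum_univ_two, trace_fin_two, hd']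
  · linear_combination (M 1 1) * h00
  · linear_combination (-(M 0 1)) * h00
  · linear_combination (-(M 1 0)) * h00
  · linear_combination (M 0 0) * h00

/-- The basis change for two non-commuting transvections. -/
theorem exists_base {x y : SLtwo F} (hx : tr x = 2) (hy : tr y = 2)
    (hne : ((x : Matrix (Fin 2) (Fin 2) F) - 1) * ((y : Matrix (Fin 2) (Fin 2) F) - 1) ≠ 0) :
    ∃ (P : GL (Fin 2) F) (l : F), l = tr (x * y) - 2 ∧ l ≠ 0 ∧
      (x : Matrix (Fin 2) (Fin 2) F) * (P : Matrix (Fin 2) (Fin 2) F) =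
        (P : Matrix (Fin 2) (Fin 2) F) * !![1, 1; 0, 1] ∧
      (y : Matrix (Fin 2) (Fin 2) F) * (P : Matrix (Fin 2) (Fin 2) F) =
        (P : Matrix (Fin 2) (Fin 2) F) * !![1, 0; l, 1] := by
  set M := (x : Matrix (Fin 2) (Fin 2) F) - 1 with hM
  set N := (y : Matrix (Fin 2) (Fin 2) F) - 1 with hN
  have htM : M.trace = 0 := by
    rw [hM, trace_sub, trace_one, trace_fin_two]
    simp only [tr] at hx
    simp [hx]
  have htN : N.trace = 0 := by
    rw [hN, trace_sub, trace_one, trace_fin_two]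
    simp only [tr] at hy
    simp [hy]
  have hsq : ∀ g : SLtwo F, tr g = 2 →
      ((g : Matrix (Fin 2) (Fin 2) F) - 1) * ((g : Matrix (Fin 2) (Fin 2) F) - 1) = 0 := by
    intro g hg
    rw [sub_mul, mul_sub, cayley_hamilton, hg, mul_one, one_mul, two_smul]
    abel
  have hM2 : M * M = 0 := hsq x hx
  have hN2 : N * N = 0 := hsq y hy
  obtain ⟨j, hj⟩ : ∃ j, (M * N).col j ≠ 0 := by
    by_contra! h
    exact hne (Matrix.ext fun a b => congrFun (h b) a)
  set e := (M * N).col j with he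
  set w := N.col j with hw
  have hcol : ∀ A B : Matrix (Fin 2) (Fin 2) F, A *ᵥ B.col j = (A * B).col j := by
    intro A B; ext i; rfl
  have hMw : M *ᵥ w = e := hcol M N
  have hMe : M *ᵥ e = 0 := by
    rw [he, hcol, ← Matrix.mul_assoc, hM2, Matrix.zero_mul]; rfl
  have hNw : N *ᵥ w = 0 := by rw [hw, hcol, hN2]; rfl
  have hNe : N *ᵥ e = (M * N).trace • w := by
    rw [he, hcol, ← Matrix.mul_assoc, nil_triple M N htN hN2]; rfl
  have hdet : (!![e 0, w 0; e 1, w 1]).det ≠ 0 := by
    intro h0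
    rw [det_fin_two_of] at h0
    obtain ⟨i, hi⟩ : ∃ i, e i ≠ 0 := by
      by_contra! h
      exact hj (funext h)
    have hwe : e i • w = w i • e := by
      funext k
      fin_cases i <;> fin_cases k <;> simp <;>
        first | linear_combination h0 | linear_combination -h0 | linear_combination (0 : F) * h0
    have h1 := congrArg (fun v => M *ᵥ v) hwe
    simp only [mulVec_smul, hMw, hMe, smul_zero] at h1
    exact hj ((smul_eq_zero.1 h1).resolve_left hi)
  refine ⟨GeneralLinearGroup.mkOfDetNeZero _ hdet, (M * N).trace, ?_, ?_, ?_, ?_⟩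
  · simp only [tr] at hx hy
    simp [hM, hN, trace_fin_two, tr, mul_apply, Fin.sum_univ_two]
    linear_combination -(hx + hy)
  · intro h0
    have hN0 : N *ᵥ e = 0 := by rw [hNe, h0, zero_smul]
    have hz : N * !![e 0, w 0; e 1, w 1] = 0 := by
      have a0 := congrFun hN0
      have b0 := congrFun hNw
      ext a b
      fin_cases b
      · simpa [mul_apply, mulVec, dotProduct, Fin.sum_univ_two] using a0 a
      · simpa [mul_apply, mulVec, dotProduct, Fin.sum_univ_two] using b0 a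
    have hz' : N = 0 := by
      have := congrArg (fun A => A * (!![e 0, w 0; e 1, w 1])⁻¹) hz
      simpa [Matrix.mul_assoc, Matrix.mul_nonsing_inv _ (isUnit_iff_ne_zero.2 hdet)] using this
    exact hne (by rw [hz', Matrix.mul_zero])
  · have hx' : (x : Matrix (Fin 2) (Fin 2) F) = M + 1 := by rw [hM, sub_add_cancel]
    show _ * !![e 0, w 0; e 1, w 1] = !![e 0, w 0; e 1, w 1] * _
    rw [hx', add_mul, one_mul]
    have a0 := congrFun hMe
    have b0 := congrFun hMw
    simp only [mulVec, dotProduct, Fin.sum_univ_two] at a0 b0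
    ext a b
    fin_cases a <;> fin_cases b <;>
      simp [mul_apply, Fin.sum_univ_two, a0, b0, add_comm]
  · have hy' : (y : Matrix (Fin 2) (Fin 2) F) = N + 1 := by rw [hN, sub_add_cancel]
    show _ * !![e 0, w 0; e 1, w 1] = !![e 0, w 0; e 1, w 1] * _
    rw [hy', add_mul, one_mul]
    have a0 := congrFun hNe
    have b0 := congrFun hNw
    simp only [mulVec, dotProduct, Fin.sum_univ_two, Pi.smul_apply, smul_eq_mul] at a0 b0
    ext a b
    fin_cases a <;> fin_cases b <;>
      simp [mul_apply, Fin.sum_univ_two, a0, b0] <;> ring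

/-- `SL₂(p)` generated by two non-commuting transvections with prime field invariant. -/
theorem exists_sl_two_hom {H : Subgroup (SLtwo F)} {x y : SLtwo F} (hx : x ∈ H) (hy : y ∈ H)
    (hxt : tr x = 2) (hyt : tr y = 2) (hne : x * y ≠ y * x) {n : ℤ} (hn : tr (x * y) = n) :
    ∃ φ : Matrix.SpecialLinearGroup (Fin 2) (ZMod p) →* SLtwo F,
      Function.Injective φ ∧ φ.range ≤ H := by
  wlog hMN : ((x : Matrix (Fin 2) (Fin 2) F) - 1) * ((y : Matrix (Fin 2) (Fin 2) F) - 1) ≠ 0
      generalizing x y with H'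
  · refine H' hy hx hyt hxt (Ne.symm hne) ?_ fun h0 => ?_
    · rw [← hn, ← tr_conj (y * x) x]; simp [mul_assoc]
    · rw [not_not] at hMN
      apply hne
      refine Subtype.ext ?_
      show (x : Matrix (Fin 2) (Fin 2) F) * y = (y : Matrix (Fin 2) (Fin 2) F) * x
      simp only [sub_mul, mul_sub, one_mul, mul_one] at hMN h0
      rw [← sub_eq_zero]
      have := congrArg₂ (· - ·) hMN h0
      simp only [sub_zero] at this
      rw [← this]; abel
  obtain ⟨P, l, hl, hl0, hPx, hPy⟩ := exists_base hxt hyt hMN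
  let ι : ZMod p →+* F := ZMod.castHom dvd_rfl F
  let m := Matrix.SpecialLinearGroup.map (n := Fin 2) ι
  let φ : Matrix.SpecialLinearGroup (Fin 2) (ZMod p) →* SLtwo F :=
    { toFun := fun g => ⟨(P : Matrix (Fin 2) (Fin 2) F) * (m g : Matrix (Fin 2) (Fin 2) F) *
          ((P⁻¹ : GL (Fin 2) F) : Matrix (Fin 2) (Fin 2) F), by
        rw [det_mul, det_mul, (m g).2, mul_one, ← det_mul, Units.mul_inv, det_one]⟩
      map_one' := Subtype.ext (by simp)
      map_mul' := fun a b => Subtype.ext (by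
        show (P : Matrix (Fin 2) (Fin 2) F) * (m (a * b) : Matrix (Fin 2) (Fin 2) F) *
            ((P⁻¹ : GL (Fin 2) F) : Matrix (Fin 2) (Fin 2) F) =
          ((P : Matrix (Fin 2) (Fin 2) F) * (m a : Matrix (Fin 2) (Fin 2) F) *
            ((P⁻¹ : GL (Fin 2) F) : Matrix (Fin 2) (Fin 2) F)) *
          ((P : Matrix (Fin 2) (Fin 2) F) * (m b : Matrix (Fin 2) (Fin 2) F) *
            ((P⁻¹ : GL (Fin 2) F) : Matrix (Fin 2) (Fin 2) F))
        simp [Matrix.mul_assoc]) }
  have hinj : Function.Injective φ := by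
    intro a b hab
    have h1 : (P : Matrix (Fin 2) (Fin 2) F) * (m a : Matrix (Fin 2) (Fin 2) F) *
        ((P⁻¹ : GL (Fin 2) F) : Matrix (Fin 2) (Fin 2) F) = _ := congrArg Subtype.val hab
    have h2 : (m a : Matrix (Fin 2) (Fin 2) F) = m b := by
      have := (Units.mul_right_inj P).1 ((Units.mul_left_inj P⁻¹).1 h1)
      exact this
    refine Matrix.SpecialLinearGroup.ext _ _ fun i j => ι.injective ?_
    exact congrFun (congrFun h2 i) j
  refine ⟨φ, hinj, ?_⟩
  rintro _ ⟨g, rfl⟩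
  suffices H.comap φ = ⊤ from Subgroup.mem_comap.1 (this.symm ▸ Subgroup.mem_top g)
  have hl' : ι ((n - 2 : ℤ) : ZMod p) = l := by
    rw [map_intCast, Int.cast_sub, hl, hn, Int.cast_ofNat]
  have hn0 : ((n - 2 : ℤ) : ZMod p) ≠ 0 := fun e => hl0 (by rw [← hl', e, map_zero])
  have hu : φ (upper 1) = x := Subtype.ext (by
    show (P : Matrix (Fin 2) (Fin 2) F) * (m (upper 1) : Matrix (Fin 2) (Fin 2) F) * _ = _
    rw [show (m (upper 1) : Matrix (Fin 2) (Fin 2) F) = !![1, 1; 0, 1] by
      ext i j; fin_cases i <;> fin_cases j <;> simp [m, upper], ← hPx, Units.mul_inv_cancel_right])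
  have hw : φ (lower ((n - 2 : ℤ) : ZMod p)) = y := Subtype.ext (by
    show (P : Matrix (Fin 2) (Fin 2) F) * (m (lower _) : Matrix (Fin 2) (Fin 2) F) * _ = _
    rw [show (m (lower ((n - 2 : ℤ) : ZMod p)) : Matrix (Fin 2) (Fin 2) F) = !![1, 0; l, 1] by
      ext i j; fin_cases i <;> fin_cases j <;> simp [m, lower, ← hl'], ← hPy,
      Units.mul_inv_cancel_right])
  refine eq_top_of_transvection_mem _ fun i j hij c => ?_
  rw [Subgroup.mem_comap]
  fin_cases i <;> fin_cases j <;> simp only [ne_eq, not_true_eq_false] at hij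
  · rw [show Matrix.SpecialLinearGroup.transvection hij c = upper (1 : ZMod p) ^ c.val by
      rw [upper_pow]; apply ext_entries <;> simp [coe_transvection, Matrix.transvection], map_pow, hu]
    exact H.pow_mem hx _
  · rw [show Matrix.SpecialLinearGroup.transvection hij c =
        lower ((n - 2 : ℤ) : ZMod p) ^ (c / ((n - 2 : ℤ) : ZMod p)).val by
      rw [lower_pow, ZMod.natCast_zmod_val, div_mul_cancel₀ _ hn0]
      apply ext_entries <;> simp [coe_transvection, Matrix.transvection], map_pow, hw]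
    exact H.pow_mem hy _

/-- Dickson: the subgroup contains a copy of `SL₂(p)`. -/
theorem exists_sl_two_prime_le [Fintype F] (hp2 : p ≠ 2) (H : Subgroup (SLtwo F))
    (hH : 1 < Nat.card (Sylow p H)) :
    ∃ φ : Matrix.SpecialLinearGroup (Fin 2) (ZMod p) →* SLtwo F,
      Function.Injective φ ∧ φ.range ≤ H := by
  suffices key : ∃ a ∈ H.map proj, ∃ b ∈ H.map proj, a ^ p = 1 ∧ b ^ p = 1 ∧ a * b ≠ b * a ∧
      ∀ h, proj h = a * b → ∃ n : ℤ, tr h = n by
    obtain ⟨a, ha, b, hb, hap, hbp, hab, htr⟩ := key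
    obtain ⟨x, hx, hxp, rfl⟩ := exists_lift p hp2 ha hap
    obtain ⟨y, hy, hyp, rfl⟩ := exists_lift p hp2 hb hbp
    obtain ⟨n, hn⟩ := htr (x * y) (map_mul _ _ _)
    exact exists_sl_two_hom p hx hy (tr_eq_two_of_pow_char p hxp) (tr_eq_two_of_pow_char p hyp)
      (fun h => hab ((proj_comm_iff p hp2 hxp).2 h)) hn
  obtain ⟨x₀, hx₀, y₀, hy₀, hx₀p, hy₀p, hne₀⟩ := exists_noncomm p hp2 H hH
  set a₀ := proj x₀
  set b₀ := proj y₀
  have ha₀ : a₀ ∈ H.map proj := Subgroup.mem_map_of_mem _ hx₀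
  have hb₀ : b₀ ∈ H.map proj := Subgroup.mem_map_of_mem _ hy₀
  have ha₀p : a₀ ^ p = 1 := by rw [← map_pow, hx₀p, map_one]
  have hb₀p : b₀ ^ p = 1 := by rw [← map_pow, hy₀p, map_one]
  have hab₀ : a₀ * b₀ ≠ b₀ * a₀ := fun h => hne₀ ((proj_comm_iff p hp2 hx₀p).1 h)
  have ha₀1 : a₀ ≠ 1 := fun h => hab₀ (by rw [h, one_mul, mul_one])
  have useIso : ∀ {G : Type} [Group G] [Finite G] (e : (H.map proj) ≃* G),
      (∃ a b : G, a ^ p = 1 ∧ b ^ p = 1 ∧ a * b ≠ b * a ∧
        ((a * b) ^ 2 = 1 ∨ (a * b) ^ 3 = 1)) →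
      ∃ a ∈ H.map proj, ∃ b ∈ H.map proj, a ^ p = 1 ∧ b ^ p = 1 ∧ a * b ≠ b * a ∧
        ∀ h, proj h = a * b → ∃ n : ℤ, tr h = n := by
    intro G _ _ e ⟨a, b, hap, hbp, hab, hpow⟩
    refine ⟨(e.symm a : H.map proj), (e.symm a).2, (e.symm b : H.map proj), (e.symm b).2,
      ?_, ?_, ?_, fun h hh => tr_int_of_pow ?_⟩
    · rw [← Subgroup.coe_pow, ← map_pow, hap, map_one, Subgroup.coe_one]
    · rw [← Subgroup.coe_pow, ← map_pow, hbp, map_one, Subgroup.coe_one]
    · intro hh
      rw [← Subgroup.coe_mul, ← Subgroup.coe_mul, ← map_mul, ← map_mul] at hh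
      exact hab (e.symm.injective (Subtype.ext hh))
    · rw [hh, ← Subgroup.coe_mul, ← map_mul, ← Subgroup.coe_pow, ← Subgroup.coe_pow, ← map_pow,
        ← map_pow]
      refine hpow.imp ?_ ?_ <;> intro h2 <;> rw [h2, map_one, Subgroup.coe_one]
  have noElt : ∀ {G : Type} [Group G] [Finite G] (_ : (H.map proj) ≃* G), p ∣ Nat.card G := by
    intro G _ _ e
    have h := orderOf_dvd_natCard (⟨a₀, ha₀⟩ : H.map proj)
    rw [Subgroup.orderOf_mk, orderOf_eq_prime ha₀p ha₀1, Nat.card_congr e.toEquiv] at h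
    exact h
  rcases dickson p (H.map proj) with h | ⟨A, hA, -, ⟨hc, -⟩ | ⟨⟨e⟩⟩⟩ | ⟨x, hx, hx1, hle⟩ |
    ⟨⟨⟨e⟩⟩ | ⟨⟨e⟩⟩ | ⟨⟨e⟩⟩⟩ | ⟨K, δ, -, hK⟩
  · exact absurd ((Subgroup.mem_bot).1 (h ▸ ha₀)) ha₀1
  · haveI := hc
    letI := IsCyclic.commGroup (α := (H.map proj : Subgroup (PSLtwo F)))
    exact absurd (congrArg Subtype.val (mul_comm (⟨a₀, ha₀⟩ : H.map proj) ⟨b₀, hb₀⟩)) hab₀
  · exfalso
    have hrot : ∀ z : DihedralGroup (Nat.card A), z ^ p = 1 → ∃ i, z = DihedralGroup.r i := by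
      rintro (i | i) hz
      · exact ⟨i, rfl⟩
      · exfalso
        have h2 : orderOf (DihedralGroup.sr i) = 2 := DihedralGroup.orderOf_sr i
        have := orderOf_dvd_of_pow_eq_one hz
        rw [h2] at this
        exact hp2 ((Nat.prime_dvd_prime_iff_eq Nat.prime_two hp.out).1 this).symm
    obtain ⟨i, hi⟩ := hrot (e ⟨a₀, ha₀⟩) (by
      rw [← map_pow, show (⟨a₀, ha₀⟩ : H.map proj) ^ p = 1 from Subtype.ext ha₀p, map_one])
    obtain ⟨j, hj⟩ := hrot (e ⟨b₀, hb₀⟩) (by
      rw [← map_pow, show (⟨b₀, hb₀⟩ : H.map proj) ^ p = 1 from Subtype.ext hb₀p, map_one])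
    refine hab₀ (congrArg Subtype.val (e.injective (?_ :
      e (⟨a₀, ha₀⟩ * ⟨b₀, hb₀⟩) = e (⟨b₀, hb₀⟩ * ⟨a₀, ha₀⟩))))
    rw [map_mul, map_mul, hi, hj, DihedralGroup.r_mul_r, DihedralGroup.r_mul_r, add_comm]
  · exfalso
    have hmem : ∀ z ∈ H.map proj, z ^ p = 1 → z ∈ torus x := by
      intro z hz hzp
      have hz' : Subgroup.zpowers z ≤
          Subgroup.normalizer ((torus x : Subgroup (PSLtwo F)) : Set (PSLtwo F)) :=
        Subgroup.zpowers_le.2 (hle hz)
      have hzg : IsPGroup p (Subgroup.zpowers z) := by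
        intro ⟨w, hw⟩
        obtain ⟨i, rfl⟩ := Subgroup.mem_zpowers_iff.1 hw
        refine ⟨1, Subtype.ext ?_⟩
        simp only [pow_one, Subgroup.coe_pow, Subgroup.coe_one]
        rw [← zpow_natCast, ← _root_.zpow_mul, mul_comm, _root_.zpow_mul, zpow_natCast, hzp,
          _root_.one_zpow]
      have hsup := hzg.to_sup_of_normal_right' (torusSylow p hx hx1).isPGroup' hz'
      have := (torusSylow p hx hx1).is_maximal' hsup le_sup_right
      exact this.le (Subgroup.mem_sup_left (Subgroup.mem_zpowers z))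
    exact hab₀ (torus_comm hx1 (hmem _ ha₀ ha₀p) (hmem _ hb₀ hb₀p))
  · have hd := noElt e
    rw [show Nat.card (alternatingGroup (Fin 4)) = 2 ^ 2 * 3 by
      rw [nat_card_alternatingGroup, Nat.card_fin]; rfl] at hd
    obtain rfl : p = 3 := by
      rcases hp.out.dvd_mul.1 hd with h | h
      · exact absurd ((Nat.prime_dvd_prime_iff_eq hp.out Nat.prime_two).1 (hp.out.dvd_of_dvd_pow h)) hp2
      · exact (Nat.prime_dvd_prime_iff_eq hp.out Nat.prime_three).1 h
    exact useIso e ⟨⟨Equiv.swap 0 1 * Equiv.swap 1 2, Equiv.Perm.mem_alternatingGroup.2 (by decide)⟩,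
      ⟨Equiv.swap 0 1 * Equiv.swap 1 3, Equiv.Perm.mem_alternatingGroup.2 (by decide)⟩, by decide, by decide, by decide, by decide⟩
  · have hd := noElt e
    rw [show Nat.card (Equiv.Perm (Fin 4)) = 2 ^ 3 * 3 by
      rw [Nat.card_perm, Nat.card_fin]; rfl] at hd
    obtain rfl : p = 3 := by
      rcases hp.out.dvd_mul.1 hd with h | h
      · exact absurd ((Nat.prime_dvd_prime_iff_eq hp.out Nat.prime_two).1 (hp.out.dvd_of_dvd_pow h)) hp2
      · exact (Nat.prime_dvd_prime_iff_eq hp.out Nat.prime_three).1 h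
    exact useIso e ⟨Equiv.swap 0 1 * Equiv.swap 1 2,
      Equiv.swap 0 1 * Equiv.swap 1 3, by decide, by decide, by decide, by decide⟩
  · have hd := noElt e
    rw [show Nat.card (alternatingGroup (Fin 5)) = 2 ^ 2 * 3 * 5 by
      rw [nat_card_alternatingGroup, Nat.card_fin]; rfl] at hd
    rcases hp.out.dvd_mul.1 hd with h | h
    · obtain rfl : p = 3 := by
        rcases hp.out.dvd_mul.1 h with h | h
        · exact absurd ((Nat.prime_dvd_prime_iff_eq hp.out Nat.prime_two).1 (hp.out.dvd_of_dvd_pow h)) hp2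
        · exact (Nat.prime_dvd_prime_iff_eq hp.out Nat.prime_three).1 h
      exact useIso e ⟨⟨Equiv.swap 0 1 * Equiv.swap 1 2, Equiv.Perm.mem_alternatingGroup.2 (by decide)⟩,
        ⟨Equiv.swap 0 1 * Equiv.swap 1 3, Equiv.Perm.mem_alternatingGroup.2 (by decide)⟩, by decide, by decide, by decide, by decide⟩
    · obtain rfl : p = 5 := (Nat.prime_dvd_prime_iff_eq hp.out (by norm_num)).1 h
      exact useIso e
        ⟨⟨Equiv.swap 0 1 * Equiv.swap 1 2 * Equiv.swap 2 3 * Equiv.swap 3 4, Equiv.Perm.mem_alternatingGroup.2 (by decide)⟩,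
        ⟨Equiv.swap 0 1 * Equiv.swap 1 2 * Equiv.swap 2 4 * Equiv.swap 4 3, Equiv.Perm.mem_alternatingGroup.2 (by decide)⟩,
        by decide, by decide, by decide, by decide⟩
  · have hsub : ∀ g : SLtwo K, MulAut.conj δ (slMap K g) ∈
        (H.map proj).map ProjectiveSpecialLinearGroup.toPGL := by
      intro g
      rcases hK with h | h <;> rw [h]
      · exact Subgroup.mem_map_of_mem _ ⟨Matrix.SpecialLinearGroup.toGL g, rfl⟩
      · exact Subgroup.mem_map_of_mem _ ⟨g, rfl⟩
    obtain ⟨a, ha, hau⟩ := Subgroup.mem_map.1 (hsub (upper 1))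
    obtain ⟨b, hb, hbl⟩ := Subgroup.mem_map.1 (hsub (lower 1))
    haveI : CharP K p := (RingHom.charP_iff K.subtype Subtype.val_injective p).2 inferInstance
    have hpow : ∀ g : SLtwo K, tr g = 2 → ∀ c : PSLtwo F,
        ProjectiveSpecialLinearGroup.toPGL c = MulAut.conj δ (slMap K g) → c ^ p = 1 := by
      intro g hg c hc
      apply ProjectiveSpecialLinearGroup.toPGL_injective
      rw [map_pow, hc, ← map_pow, ← map_pow, pow_char_of_tr_two p hg, map_one, map_one, map_one]
    refine ⟨a, ha, b, hb, hpow _ (by simp [tr]; norm_num) a hau,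
      hpow _ (by simp [tr]; norm_num) b hbl, ?_, ?_⟩
    · intro h
      have h1 := congrArg ProjectiveSpecialLinearGroup.toPGL h
      rw [map_mul, map_mul, hau, hbl, ← map_mul, ← map_mul, ← map_mul, ← map_mul] at h1
      have h2 := (MulAut.conj δ).injective h1
      rw [← div_eq_one, ← map_div, ← MonoidHom.mem_ker, ker_slMap, mem_center_iff_eq,
        div_eq_iff_eq_mul, div_eq_iff_eq_mul, one_mul] at h2
      have h2' : (2 : K) ≠ 0 := fun e =>
        hp2 ((Nat.prime_dvd_prime_iff_eq hp.out Nat.prime_two).1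
          ((CharP.cast_eq_zero_iff K p 2).1 (by exact_mod_cast e)))
      rcases h2 with h2 | h2
      · have := congrArg (fun g : SLtwo K => g 0 0) h2
        simp [mul_00] at this
      · have := congrArg (fun g : SLtwo K => g 1 0) h2
        simp [Matrix.mul_apply, Fin.sum_univ_two] at this
        exact h2' (by linear_combination this)
    · intro h hh
      obtain ⟨D, rfl⟩ := ProjGenLinGroup.mk_surjective δ
      set g := GeneralLinearGroup.map K.subtype
        (Matrix.SpecialLinearGroup.toGL (upper (1 : K) * lower 1)) with hgdef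
      have e : ProjGenLinGroup.mk (Matrix.SpecialLinearGroup.toGL h) =
          ProjGenLinGroup.mk (D * g * D⁻¹) := by
        have h1 := congrArg ProjectiveSpecialLinearGroup.toPGL hh
        rw [map_mul, hau, hbl, ← map_mul, ← map_mul] at h1
        rw [← ProjectiveSpecialLinearGroup.toPGL_mk]
        refine Eq.trans h1 ?_
        simp only [hgdef, map_mul, map_inv, slMap, glMap, MonoidHom.comp_apply, MulAut.conj_apply]
        group
      have hc : (D * g * D⁻¹)⁻¹ * Matrix.SpecialLinearGroup.toGL h ∈ Subgroup.center (GL (Fin 2) F) := by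
        rw [← ProjGenLinGroup.mk_eq_one, map_mul, map_inv, e, inv_mul_cancel]
      rw [GeneralLinearGroup.center_eq_range_scalar] at hc
      obtain ⟨c, hc⟩ := hc
      rw [eq_inv_mul_iff_mul_eq] at hc
      have hm : (h : Matrix (Fin 2) (Fin 2) F) =
          (c : F) • ((D * g * D⁻¹ : GL (Fin 2) F) : Matrix (Fin 2) (Fin 2) F) := by
        have := congrArg (fun u : GL (Fin 2) F => (u : Matrix (Fin 2) (Fin 2) F)) hc
        simpa [← Matrix.smul_eq_mul_diagonal] using this.symm
      have hgm : (g : Matrix (Fin 2) (Fin 2) F) = !![2, 1; 1, 1] := by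
        ext i j
        fin_cases i <;> fin_cases j <;>
          simp [hgdef, Matrix.mul_apply, Fin.sum_univ_two, upper, lower] <;> norm_num
      have hd := congrArg Matrix.det hm
      rw [h.2, det_smul, Fintype.card_fin, Units.val_mul, Units.val_mul, det_units_conj, hgm,
        det_fin_two_of] at hd
      have ht := congrArg Matrix.trace hm
      rw [trace_smul, Units.val_mul, Units.val_mul, trace_units_conj, hgm, trace_fin_two,
        trace_fin_two] at ht
      have ht' : tr h = (c : F) * 3 := by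
        rw [tr, ht]; simp; norm_num
      rcases mul_self_eq_one_iff.1 (show (c : F) * c = 1 by linear_combination -hd) with e | e
      · exact ⟨3, by rw [ht', e]; norm_num⟩
      · exact ⟨-3, by rw [ht', e]; norm_num⟩

end Cfsg.Agent.Lib.LinGroup
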